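import Cfsg.Agent.BC85.Star.Focal
import Cfsg.Agent.BC85.Counting
import Cfsg.Agent.BC85.Pairs.Saturation
import Cfsg.Agent.LocalEven62.FocalProper

/-!
# Height zero characters when the automorphism group of a defect group is a `p`-group

The row of a height zero character in the contribution matrix has squares summing to a multiple of
`p ^ d`; its entries are units exactly at height zero and are constant along the free action of the
linear characters of the focal quotient.
-/

set_option autoImplicit false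
set_option linter.unusedSectionVars false

namespace Cfsg.Agent.BC85.AutPGroup

open BlocksCore BlocksDefect BC85.Star
open scoped Classical

universe u

variable {G : Type u} [Group G] [Fintype G] {p : ℕ} [Fact p.Prime] {M : Ideal AlgInt}
  {B : Set (IrrCharacter G)} {P : Subgroup G}
  {e : Set (IrrCharacter (Subgroup.centralizer (P : Set G)))}

/-- A row of a height zero character modulo a power of `p`. -/
theorem exists_row (hM : IsPModular p M) (hB : IsPBlock M B) :
    ∃ a : IrrCharacter G → ℤ,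
      (∀ χ ψ : IrrCharacter G, χ ∈ B → ψ ∈ B →
        (∀ g : G, ¬ p ∣ orderOf g → (χ : G → ℂ) g = (ψ : G → ℂ) g) → a χ = a ψ) ∧
      (∀ χ, χ ∈ B → blockHeight p B (χ : G → ℂ) = 0 → ¬ (p : ℤ) ∣ a χ) ∧
      ∀ k, k ≤ blockDefect p B → k ≤ 2 → (p : ℤ) ^ k ∣
        ∑ᶠ χ ∈ {χ : IrrCharacter G | χ ∈ B ∧ blockHeight p B (χ : G → ℂ) = 0}, a χ ^ 2 := by
  have := isPrime hM
  have := finite_irr (G := G)
  have := Fintype.ofFinite (IrrCharacter G)
  have := Fintype.ofFinite B
  obtain ⟨m, hm, hs, hi, hd, hu, -⟩ := exists_matrix hM hB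
  obtain ⟨θ, hθ, hθ0⟩ := exists_height_zero hM hB
  set o : B := ⟨θ, hθ⟩
  refine ⟨fun χ => if h : χ ∈ B then m ⟨χ, h⟩ o else 0, fun χ ψ hχ hψ heq => ?_, fun χ hχ h0 => ?_,
    fun k hk hk2 => ?_⟩
  · simp only [dif_pos hχ, dif_pos hψ]
    apply Int.cast_injective (α := ℂ)
    rw [hm, hm, BC85.prj_def, BC85.prj_def]
    congr 2
    funext g
    by_cases hg : p ∣ orderOf g
    · rw [pRegularPart_neg hg, pRegularPart_neg hg]
    · rw [pRegularPart_pos hg, pRegularPart_pos hg, heq g hg]
  · simp only [dif_pos hχ]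
    have h := hu ⟨χ, hχ⟩ o hθ0
    rwa [h0, zero_add, pow_one] at h
  · have hsum : (p : ℤ) ^ k ∣ ∑ χ : B, m χ o ^ 2 := by
      have h1 : ∑ χ : B, m χ o ^ 2 = (p : ℤ) ^ blockDefect p B * m o o := by
        rw [← hi o o]
        exact Finset.sum_congr rfl fun χ _ => by rw [sq, hs χ o]
      rw [h1]
      exact dvd_mul_of_dvd_left (pow_dvd_pow _ hk) _
    rw [← Finset.sum_filter_add_sum_filter_not Finset.univ
      (fun χ : B => blockHeight p B ((χ : IrrCharacter G) : G → ℂ) = 0)] at hsum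
    have hH : (∑ᶠ χ ∈ {χ : IrrCharacter G | χ ∈ B ∧ blockHeight p B (χ : G → ℂ) = 0},
        (if h : χ ∈ B then m ⟨χ, h⟩ o else 0) ^ 2) =
        ∑ χ ∈ Finset.univ.filter (fun χ : B => blockHeight p B ((χ : IrrCharacter G) : G → ℂ) = 0),
          m χ o ^ 2 := by
      rw [finsum_mem_eq_toFinset_sum]
      refine Finset.sum_bij (fun χ hχ => ⟨χ, (Set.mem_toFinset.mp hχ).1⟩) (fun χ hχ =>
        Finset.mem_filter.mpr ⟨Finset.mem_univ _, (Set.mem_toFinset.mp hχ).2⟩)
        (fun _ _ _ _ h => congrArg (fun x : B => (x : IrrCharacter G)) h)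
        (fun χ hχ => ⟨χ, Set.mem_toFinset.mpr ⟨χ.2, (Finset.mem_filter.mp hχ).2⟩, Subtype.ext rfl⟩)
        fun χ hχ => by rw [dif_pos (Set.mem_toFinset.mp hχ).1]
    have hrest : (p : ℤ) ^ k ∣ ∑ χ ∈ Finset.univ.filter
        (fun χ : B => ¬ blockHeight p B ((χ : IrrCharacter G) : G → ℂ) = 0), m χ o ^ 2 :=
      Finset.dvd_sum fun χ hχ => (pow_dvd_pow _ hk2).trans (pow_dvd_pow_of_dvd
        ((dvd_pow_self _ (Finset.mem_filter.mp hχ).2).trans (hd χ o)) 2)
    rw [hH]
    exact (dvd_add_left hrest).mp hsum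

/-- For `p ≤ 3`. -/
theorem dvd_card_small (hM : IsPModular p M) (hB : IsPBlock M B) (hd : 1 ≤ blockDefect p B)
    (hp3 : p ≤ 3) :
    p ∣ Nat.card {χ : IrrCharacter G // χ ∈ B ∧ blockHeight p B (χ : G → ℂ) = 0} := by
  have := finite_irr (G := G)
  have := Fintype.ofFinite (IrrCharacter G)
  obtain ⟨a, -, hu, hsum⟩ := exists_row hM hB
  have h := hsum 1 hd (by norm_num)
  rw [pow_one, ← ZMod.intCast_zmod_eq_zero_iff_dvd, finsum_mem_eq_toFinset_sum, Int.cast_sum,
    Finset.sum_congr rfl fun χ hχ => ?_, Finset.sum_const, nsmul_one,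
    ZMod.natCast_eq_zero_iff] at h
  · have hc : Nat.card {χ : IrrCharacter G // χ ∈ B ∧ blockHeight p B (χ : G → ℂ) = 0} =
        {χ : IrrCharacter G | χ ∈ B ∧ blockHeight p B (χ : G → ℂ) = 0}.toFinset.card :=
      Nat.subtype_card _ fun _ => Set.mem_toFinset
    rwa [hc]
  have hne : ((a χ : ℤ) : ZMod p) ≠ 0 := fun hz => by
    rw [ZMod.intCast_zmod_eq_zero_iff_dvd] at hz
    exact hu χ (Set.mem_toFinset.mp hχ).1 (Set.mem_toFinset.mp hχ).2 hz
  have h1 := ZMod.pow_card_sub_one_eq_one hne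
  have h2 : p = 2 ∨ p = 3 := by have := (Fact.out : p.Prime).two_le; omega
  push_cast
  rcases h2 with rfl | rfl
  · simp only [Nat.add_one_sub_one, pow_one] at h1
    rw [h1, one_pow]
  · simpa using h1

/-- The count when the focal subgroup is proper. -/
theorem orbit_count (hM : IsPModular p M) (hmax : IsMaximalBrauerPair p M B P e)
    {F : FusionSystem P} (hF : IsBlockFusionSystemOn p M B P e F) (hfoc : F.focalSubgroup < P)
    (hd : 2 ≤ blockDefect p B) :
    ∃ r : ℕ, Nat.card {χ : IrrCharacter G // χ ∈ B ∧ blockHeight p B (χ : G → ℂ) = 0} = p * r ∧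
      2 ≤ r ∧ (p % 4 = 3 → 3 ≤ r) := by
  have := isPrime hM
  have hp : p.Prime := Fact.out
  have := finite_irr (G := G)
  have := Fintype.ofFinite (IrrCharacter G)
  set N := F.focalSubgroup.subgroupOf P with hN
  have hNn : N.Normal := ⟨fun x hx g => by
    have h1 := N.mul_mem hx (commutator_mem_focal F g x)
    rwa [mul_inv_cancel_left] at h1⟩
  letI : CommGroup (P ⧸ N) :=
    { (inferInstance : Group (P ⧸ N)) with
      mul_comm := by
        intro a b
        induction a using QuotientGroup.induction_on with | _ a =>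
        induction b using QuotientGroup.induction_on with | _ b =>
        rw [← QuotientGroup.mk_mul, ← QuotientGroup.mk_mul, QuotientGroup.eq]
        have h1 := commutator_mem_focal F b⁻¹ a
        rw [show (a * b)⁻¹ * (b * a) = b⁻¹ * (a⁻¹ * (b * a * b⁻¹)) * b by group]
        have h2 := hNn.conj_mem _ (commutator_mem_focal F b a) b⁻¹
        simpa [mul_assoc] using h2 }
  have : Finite ((P ⧸ N) →* ℂˣ) := Nat.finite_of_card_ne_zero (by
    rw [CommGroup.card_monoidHom_of_hasEnoughRootsOfUnity]; exact Nat.card_pos.ne')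
  have hdvd : p ∣ Nat.card ((P ⧸ N) →* ℂˣ) := by
    rw [CommGroup.card_monoidHom_of_hasEnoughRootsOfUnity]
    obtain ⟨j, hj⟩ := IsPGroup.iff_card.mp (hmax.1.1.1.to_quotient N)
    rw [hj]
    refine dvd_pow_self p fun hj0 => hfoc.not_ge ?_
    rw [hj0, pow_zero, ← Subgroup.index_eq_card, Subgroup.index_eq_one] at hj
    exact Subgroup.subgroupOf_eq_top.mp hj
  obtain ⟨L₀, hL₀⟩ := exists_prime_orderOf_dvd_card' p hdvd
  set L : P →* ℂˣ := L₀.comp (QuotientGroup.mk' N) with hL
  have hLord : orderOf L = p := by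
    refine orderOf_eq_prime (MonoidHom.ext fun x => ?_) fun h => ?_
    · have := DFunLike.congr_fun (show L₀ ^ p = 1 by rw [← hL₀]; exact pow_orderOf_eq_one L₀)
        (x : P ⧸ N)
      exact this
    · have : L₀ = 1 := MonoidHom.ext fun x => by
        induction x using QuotientGroup.induction_on with
        | _ x => exact DFunLike.congr_fun h x
      rw [this, orderOf_one] at hL₀
      exact hp.ne_one hL₀.symm
  set Λ := Subgroup.zpowers L with hΛ
  have htriv : ∀ l ∈ Λ, ∀ x ∈ N, l x = 1 := by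
    rintro _ ⟨n, rfl⟩ x hx
    show (L ^ n) x = 1
    rw [show (L ^ n) x = L x ^ n from rfl,
      show L x = 1 by rw [hL, MonoidHom.comp_apply, QuotientGroup.mk'_apply,
        (QuotientGroup.eq_one_iff x).mpr hx, map_one], one_zpow]
  have hst : ∀ l : Λ, IsPairStable p M P e fun x => ((l : P →* ℂˣ) x : ℂ) := fun l =>
    isPairStable_of_focal hM hF l (htriv l l.2)
  let X := {χ : IrrCharacter G // χ ∈ B ∧ blockHeight p B (χ : G → ℂ) = 0}
  have hact : ∀ (l : Λ) (x : X), ∃ y : X, (y.1 : G → ℂ) =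
      starMul p M P e (fun z => ((l : P →* ℂˣ) z : ℂ)) (x.1 : G → ℂ) := fun l x => by
    obtain ⟨ψ, hψ, hψe, hh⟩ := exists_twist hM hmax (l : P →* ℂˣ) (hst l) x.2.1
    exact ⟨⟨ψ, hψ, hh.trans x.2.2⟩, hψe⟩
  choose act hact using hact
  letI : MulAction Λ X :=
    { smul := act
      one_smul := fun x => Subtype.ext (Subtype.ext (by
        refine (hact 1 x).trans ?_
        simp only [OneMemClass.coe_one, MonoidHom.one_apply, Units.val_one]
        exact starMul_one hM hmax x.2.1))
      mul_smul := fun l l' x => Subtype.ext (Subtype.ext (by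
        refine (hact (l * l') x).trans ?_
        show _ = ((act l (act l' x)).1 : G → ℂ)
        rw [hact l (act l' x), hact l' x, starMul_starMul hM hmax (hst l) (hst l') (irr_class _)]
        congr 1)) }
  have hstab : ∀ x : X, MulAction.stabilizer Λ x = ⊥ := fun x => by
    rw [Subgroup.eq_bot_iff_forall]
    intro l hl
    refine Subtype.ext (MonoidHom.ext fun v => ?_)
    have hfix : starMul p M P e (fun z => ((l : P →* ℂˣ) z : ℂ)) (x.1 : G → ℂ) = x.1 := by
      rw [← hact l x]
      exact congrArg (fun y : X => (y.1 : G → ℂ)) hl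
    obtain ⟨f', hf'⟩ := exists_below hM hmax.1.1 (Subgroup.zpowers_le.mpr v.2)
    obtain ⟨s, hsv, hs, hne⟩ := exists_proj_ne_zero_of_height_zero hM hmax x.2.1 x.2.2 v hf'
    exact twist_fixed_apply hM hmax (hst l) hfix v hf' hsv hs hne
  have := Fintype.ofFinite (MulAction.orbitRel.Quotient Λ X)
  have horb : ∀ x : X, Nat.card (MulAction.orbit Λ x) = p := fun x => by
    rw [Nat.card_coe_set_eq, ← MulAction.index_stabilizer, hstab, Subgroup.index_bot, hΛ,
      Nat.card_zpowers, hLord]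
  obtain ⟨a, hconst, hu, hsum⟩ := exists_row hM hmax.1.2.1
  let b : MulAction.orbitRel.Quotient Λ X → ZMod p := fun ω => ((a ω.out.1 : ℤ) : ZMod p)
  have hb : ∀ ω, b ω ≠ 0 := fun ω hz => by
    rw [ZMod.intCast_zmod_eq_zero_iff_dvd] at hz
    exact hu _ ω.out.2.1 ω.out.2.2 hz
  refine ⟨Fintype.card (MulAction.orbitRel.Quotient Λ X), ?_, ?_⟩
  · rw [Nat.card_congr (MulAction.selfEquivSigmaOrbits Λ X), Nat.card_sigma,
      Finset.sum_congr rfl fun ω _ => horb ω.out, Finset.sum_const, Finset.card_univ, smul_eq_mul,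
      mul_comm]
  have hzero : ∑ ω, b ω ^ 2 = 0 := by
    have h := hsum 2 hd le_rfl
    have hX : (∑ᶠ χ ∈ {χ : IrrCharacter G | χ ∈ B ∧ blockHeight p B (χ : G → ℂ) = 0}, a χ ^ 2) =
        (p : ℤ) * ∑ ω : MulAction.orbitRel.Quotient Λ X, a ω.out.1 ^ 2 := by
      have := Fintype.ofFinite X
      have := fun ω : MulAction.orbitRel.Quotient Λ X => Fintype.ofFinite (MulAction.orbit Λ ω.out)
      rw [← finsum_set_coe_eq_finsum_mem]
      show ∑ᶠ x : X, a x.1 ^ 2 = _
      rw [finsum_eq_sum_of_fintype]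
      rw [← Equiv.sum_comp (MulAction.selfEquivSigmaOrbits Λ X).symm, Fintype.sum_sigma,
        Finset.mul_sum]
      refine Finset.sum_congr rfl fun ω _ => ?_
      rw [Finset.sum_congr rfl (g := fun _ => a ω.out.1 ^ 2) fun y _ => ?_, Finset.sum_const,
        Finset.card_univ, ← Nat.card_eq_fintype_card, horb, nsmul_eq_mul]
      show a (y : X).1 ^ 2 = _
      obtain ⟨l, hl⟩ := y.2
      rw [← hl]
      refine congrArg (· ^ 2) (hconst _ _ (l • ω.out).2.1 ω.out.2.1 fun g hg => ?_)
      rw [show ((l • ω.out).1 : G → ℂ) = _ from hact l ω.out,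
        starMul_regular hM hmax (hst l) ω.out.2.1 hg, map_one, Units.val_one, one_mul]
    rw [hX, pow_two, mul_dvd_mul_iff_left (by exact_mod_cast hp.ne_zero)] at h
    rw [← ZMod.intCast_zmod_eq_zero_iff_dvd] at h
    push_cast at h
    exact h
  have hne : Nonempty (MulAction.orbitRel.Quotient Λ X) := by
    obtain ⟨χ, hχ, h0⟩ := exists_height_zero hM hmax.1.2.1
    exact ⟨Quotient.mk'' ⟨χ, hχ, h0⟩⟩
  have h2 : 2 ≤ Fintype.card (MulAction.orbitRel.Quotient Λ X) := by
    by_contra hlt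
    have h1 : Fintype.card (MulAction.orbitRel.Quotient Λ X) = 1 := by
      have := Fintype.card_pos (α := MulAction.orbitRel.Quotient Λ X); omega
    obtain ⟨ω, hω⟩ := Finset.card_eq_one.mp ((Finset.card_univ).trans h1)
    rw [hω, Finset.sum_singleton] at hzero
    exact hb ω (pow_eq_zero_iff two_ne_zero |>.mp hzero)
  refine ⟨h2, fun h4 => ?_⟩
  by_contra hlt
  obtain ⟨ω, ω', hne', hω⟩ := Finset.card_eq_two.mp ((Finset.card_univ).trans
    (show Fintype.card (MulAction.orbitRel.Quotient Λ X) = 2 by omega))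
  rw [hω, Finset.sum_pair hne'] at hzero
  refine (ZMod.exists_sq_eq_neg_one_iff (p := p)).mp ⟨b ω / b ω', ?_⟩ h4
  have hb' := hb ω'
  field_simp
  linear_combination -hzero

theorem two_le_defect (hM : IsPModular p M) {D : Subgroup G} (hD : IsDefectGroup p M B D)
    (hB : IsPBlock M B) (hAut : IsPGroup p (MulAut D)) (hD1 : D ≠ ⊥) (hp : p ≠ 2) :
    2 ≤ blockDefect p B := by
  have := isPrime hM
  have hcard := defectGroup_natCard hM hB hD
  by_contra hlt
  have h1 : blockDefect p B = 1 := by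
    rcases Nat.eq_zero_or_pos (blockDefect p B) with h0 | h0
    · rw [h0, pow_zero] at hcard
      exact absurd (Subgroup.card_eq_one.mp hcard) hD1
    · omega
  rw [h1, pow_one] at hcard
  have : IsCyclic D := isCyclic_of_prime_card hcard
  letI : CommGroup D := IsCyclic.commGroup
  obtain ⟨g, hg⟩ := IsCyclic.exists_generator (α := D)
  obtain ⟨j, hj⟩ := hAut (MulEquiv.inv D)
  have h2 : (MulEquiv.inv D : MulAut D) ^ 2 = 1 := MulEquiv.ext fun x => by simp [pow_two]
  have hcop : Nat.Coprime (p ^ j) 2 :=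
    Nat.Coprime.pow_left _ ((Nat.coprime_primes (Fact.out : p.Prime) Nat.prime_two).mpr hp)
  have h3 : (MulEquiv.inv D : MulAut D) = 1 :=
    orderOf_eq_one_iff.mp (Nat.eq_one_of_dvd_coprimes hcop (orderOf_dvd_of_pow_eq_one hj)
      (orderOf_dvd_of_pow_eq_one h2))
  have h4 : g ^ 2 = 1 := by
    have := DFunLike.congr_fun h3 g
    rw [pow_two]
    exact inv_eq_iff_mul_eq_one.mp (by simpa using this)
  have h5 := orderOf_dvd_of_pow_eq_one h4
  rw [orderOf_eq_card_of_forall_mem_zpowers hg, hcard] at h5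
  exact hp ((Nat.prime_dvd_prime_iff_eq Fact.out Nat.prime_two).mp h5)

end Cfsg.Agent.BC85.AutPGroup
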